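import Groth.Agent.ToposPts.Step
import Mathlib.CategoryTheory.Functor.OfSequence
import Mathlib.CategoryTheory.Functor.TypeValuedFlat
import Mathlib.CategoryTheory.Limits.Elements

/-!
# Deligne's theorem on the existence of points
-/

set_option autoImplicit false

universe u

open CategoryTheory CategoryTheory.Limits Opposite

namespace Groth.Agent.ToposPts

variable {C : Type u} [SmallCategory C] [HasFiniteLimits C] {J : GrothendieckTopology C} {X : C} {S : Sieve X}

/-- the initial stage -/
noncomputable def stage₀ (hS : S ∉ J X) : Stage J S :=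
  { F := coyoneda.obj (op X), x := 𝟙 X, inv := fun W g w hw h => hS (by
      have hw' : w ≫ g = 𝟙 X := hw
      have := J.pullback_stable w h
      rwa [← Sieve.pullback_comp, hw', Sieve.pullback_id] at this) }

theorem exists_point (hJ : ∀ (U : C) (S : Sieve U), S ∈ J U →
    ∃ (n : ℕ) (V : Fin n → C) (g : ∀ k, V k ⟶ U), (∀ k, S (g k)) ∧ Sieve.ofArrows V g ∈ J U)
    (hS : S ∉ J X) :
    ∃ (Φ : GrothendieckTopology.Point.{u} J) (x : Φ.fiber.obj X),
      ¬ ∃ (Y : C) (g : Y ⟶ X) (_ : S g) (y : Φ.fiber.obj Y), Φ.fiber.map g y = x := by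
  choose nxt α hα hlift using fun σ : Stage J S => exists_step hJ (σ := σ)
  let st : ℕ → Stage J S := fun n => Nat.rec (stage₀ hS) (fun _ σ => nxt σ) n
  let f : ∀ n, (st n).F ⟶ (st (n + 1)).F := fun n => α (st n)
  let G : ℕ ⥤ C ⥤ Type u := Functor.ofSequence f
  have : ∀ n, PreservesFiniteLimits (G.obj n) := fun n => (st n).pres
  have : PreservesFiniteLimits G.flip :=
    ⟨fun K _ _ => preservesLimitsOfShape_of_evaluation _ _ fun n =>
      inferInstanceAs (PreservesLimitsOfShape K (G.obj n))⟩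
  let Finf : C ⥤ Type u := G.flip ⋙ colim
  have : PreservesFiniteLimits Finf := inferInstanceAs (PreservesFiniteLimits (G.flip ⋙ colim))
  have : HasFiniteLimits Finf.Elements := ⟨fun K _ _ => inferInstance⟩
  have : IsCofiltered Finf.Elements := IsCofiltered.of_hasFiniteLimits _
  let emb : ∀ (n : ℕ) {Q : C}, (st n).F.obj Q → Finf.obj Q := fun n {Q} q => colimit.ι (G.flip.obj Q) n q
  have hnat : ∀ (n : ℕ) {Q Q' : C} (g : Q ⟶ Q') (q : (st n).F.obj Q),
      Finf.map g (emb n q) = emb n ((st n).F.map g q) := fun n Q Q' g q =>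
    congr($(ι_colimMap (G.flip.map g) n) q)
  have hsucc : ∀ (n : ℕ) {Q : C} (q : (st n).F.obj Q), emb (n + 1) ((f n).app Q q) = emb n q := fun n Q q => by
    have h := colimit.w (G.flip.obj Q) (homOfLE (Nat.le_add_right n 1))
    have hG : (G.flip.obj Q).map (homOfLE (Nat.le_add_right n 1)) = (f n).app Q :=
      congrArg (fun φ => NatTrans.app φ Q) (Functor.ofSequence_map_homOfLE_succ f n)
    rw [hG] at h
    exact congr($h q)
  have hx : ∀ n, emb n (st n).x = emb 0 (st 0).x := fun n => by
    induction n with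
    | zero => rfl
    | succ n ih =>
      rw [← ih, ← hsucc n]
      exact congrArg (emb (n + 1)) (hα (st n)).symm
  refine ⟨{ fiber := Finf, initiallySmall := initiallySmall_of_essentiallySmall _, jointly_surjective := ?_ },
    emb 0 (st 0).x, ?_⟩
  · intro Y R hR y
    obtain ⟨n, q, rfl⟩ := Types.jointly_surjective' y
    obtain ⟨V, g, hg, v, hv⟩ := hlift (st n) Y R hR q
    refine ⟨V, g, hg, emb (n + 1) v, ?_⟩
    exact (hnat (n + 1) g v).trans ((congrArg (emb (n + 1)) hv).trans (hsucc n q))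
  · rintro ⟨Y, g, hg, y, hy⟩
    obtain ⟨n, q, rfl⟩ := Types.jointly_surjective' y
    have h : emb n ((st n).F.map g q) = emb n (st n).x := (hnat n g q).symm.trans (hy.trans (hx n).symm)
    obtain ⟨m, r, r', hr⟩ := (Types.FilteredColimit.colimit_eq_iff _).1 h
    have hxm : (G.map r').app X (st n).x = (st m).x := by
      have : ∀ (k : ℕ) (i : ℕ) (hi : i ≤ i + k), (G.map (homOfLE hi)).app X (st i).x = (st (i + k)).x := by
        intro k
        induction k with
        | zero => intro i hi; simp [show homOfLE hi = 𝟙 i from rfl]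
        | succ k ih =>
          intro i hi
          have e : homOfLE hi = homOfLE (show i ≤ i + k by omega) ≫ homOfLE (Nat.le_add_right (i + k) 1) := rfl
          rw [e, Functor.map_comp, NatTrans.comp_app, ConcreteCategory.comp_apply, ih i _,
            Functor.ofSequence_map_homOfLE_succ]
          exact hα (st (i + k))
      obtain ⟨k, rfl⟩ := Nat.exists_eq_add_of_le (leOfHom r')
      exact this k n _
    refine (st m).inv Y g ((G.map r).app Y q) ?_ ?_
    · change (G.obj m).map g _ = _
      rw [← NatTrans.naturality_apply]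
      exact hr.trans hxm
    · rw [Sieve.pullback_eq_top_of_mem S hg]
      exact J.top_mem _

theorem hasEnoughPoints (J : GrothendieckTopology C) (hJ : ∀ (U : C) (S : Sieve U), S ∈ J U →
    ∃ (n : ℕ) (V : Fin n → C) (g : ∀ k, V k ⟶ U), (∀ k, S (g k)) ∧ Sieve.ofArrows V g ∈ J U) :
    GrothendieckTopology.HasEnoughPoints.{u} J := by
  choose Φ x hx using fun s : {p : Σ X : C, Sieve X // p.2 ∉ J p.1} => exists_point hJ s.2
  refine ⟨⟨ObjectProperty.ofObj Φ, inferInstance,
    ObjectProperty.IsConservativeFamilyOfPoints.mk' fun X S hS => ?_⟩⟩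
  by_contra hnot
  obtain ⟨Y, g, hg, y, hy⟩ := hS ⟨Φ ⟨⟨X, S⟩, hnot⟩, ObjectProperty.ofObj.mk _⟩ (x ⟨⟨X, S⟩, hnot⟩)
  exact hx ⟨⟨X, S⟩, hnot⟩ ⟨Y, g, hg, y, hy⟩

end Groth.Agent.ToposPts
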