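import Mathlib.CategoryTheory.Sites.Point.Conservative
import Mathlib.CategoryTheory.Limits.Shapes.FiniteLimits
import Mathlib.CategoryTheory.Limits.FilteredColimitCommutesFiniteLimit
import Mathlib.CategoryTheory.Limits.Yoneda
import Mathlib.CategoryTheory.Limits.Types.Filtered
import Mathlib.CategoryTheory.Limits.Preserves.Shapes.Equalizers
import Mathlib.CategoryTheory.Limits.Types.Products
import Mathlib.Topology.Compactness.Compact
import Mathlib.Topology.Constructions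
import Mathlib.Topology.Order

/-!
# Deligne's theorem: one step of the construction of a point

A stage is a left exact functor `F : C ⥤ Type` with an element `x` of `F X` such that a given sieve
`S` on `X` is not covering on any element of `F` over `x`.  The step chooses, by compactness, a lift
for every element of every finite covering family and adjoins it.
-/

set_option autoImplicit false

universe u

open CategoryTheory CategoryTheory.Limits Opposite

namespace Groth.Agent.ToposPts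

variable {C : Type u} [SmallCategory C] [HasFiniteLimits C] (J : GrothendieckTopology C) {X : C} (S : Sieve X)

/-- a left exact functor with an element over which `S` is nowhere covering -/
structure Stage : Type (u + 1) where
  /-- the functor -/
  F : C ⥤ Type u
  [pres : PreservesFiniteLimits F]
  /-- the element -/
  x : F.obj X
  inv : ∀ (W : C) (g : W ⟶ X) (w : F.obj W), F.map g w = x → S.pullback g ∉ J W

attribute [instance] Stage.pres

variable {J S}

lemma elem_comp (F : C ⥤ Type u) {A B D : C} (f : A ⟶ B) (g : B ⟶ D) (a : F.obj A) :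
    F.map (f ≫ g) a = F.map g (F.map f a) := by
  rw [Functor.map_comp]; rfl

lemma exists_prod (F : C ⥤ Type u) [PreservesFiniteLimits F] {A B : C} (a : F.obj A) (b : F.obj B) :
    ∃ p : F.obj (prod A B), F.map prod.fst p = a ∧ F.map prod.snd p = b := by
  let e := PreservesLimitPair.iso F A B ≪≫ Types.binaryProductIso (F.obj A) (F.obj B)
  refine ⟨e.inv (a, b), ?_, ?_⟩
  · have h : e.hom ≫ TypeCat.ofHom Prod.fst = F.map prod.fst := by simp [e]
    rw [← h]; simp
  · have h : e.hom ≫ TypeCat.ofHom Prod.snd = F.map prod.snd := by simp [e]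
    rw [← h]; simp

lemma exists_equalizer_lift (F : C ⥤ Type u) [PreservesFiniteLimits F] {A B : C} (f g : A ⟶ B) (a : F.obj A)
    (h : F.map f a = F.map g a) : ∃ (E : C) (e : E ⟶ A) (b : F.obj E), e ≫ f = e ≫ g ∧ F.map e b = a := by
  let l := isLimitOfHasEqualizerOfPreservesLimit F f g
  let k : (PUnit : Type u) ⟶ F.obj A := TypeCat.ofHom fun _ => a
  refine ⟨equalizer f g, equalizer.ι f g,
    (l.lift (Fork.ofι k (by ext; exact h))) PUnit.unit, equalizer.condition f g, ?_⟩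
  exact congr($(Fork.IsLimit.lift_ι' l k (by ext; exact h)) PUnit.unit)

variable (hJ : ∀ (U : C) (S : Sieve U), S ∈ J U →
  ∃ (n : ℕ) (V : Fin n → C) (g : ∀ k, V k ⟶ U), (∀ k, S (g k)) ∧ Sieve.ofArrows V g ∈ J U) (σ : Stage J S)

/-- a covering sieve and an element below it -/
structure Task : Type u where
  /-- the object -/
  Y : C
  /-- the sieve -/
  R : Sieve Y
  hR : R ∈ J Y
  /-- the element -/
  y : σ.F.obj Y

variable {σ}

/-- number of members of the chosen finite cover -/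
noncomputable def Task.n (t : Task σ) : ℕ := (hJ t.Y t.R t.hR).choose

/-- members of the chosen finite cover -/
noncomputable def Task.V (t : Task σ) : Fin (t.n hJ) → C := (hJ t.Y t.R t.hR).choose_spec.choose

/-- maps of the chosen finite cover -/
noncomputable def Task.f (t : Task σ) (k : Fin (t.n hJ)) : t.V hJ k ⟶ t.Y :=
  (hJ t.Y t.R t.hR).choose_spec.choose_spec.choose k

lemma Task.f_mem (t : Task σ) (k : Fin (t.n hJ)) : t.R (t.f hJ k) :=
  (hJ t.Y t.R t.hR).choose_spec.choose_spec.choose_spec.1 k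

lemma Task.cover (t : Task σ) : Sieve.ofArrows (t.V hJ) (t.f hJ) ∈ J t.Y :=
  (hJ t.Y t.R t.hR).choose_spec.choose_spec.choose_spec.2

lemma Task.n_pos (t : Task σ) : 0 < t.n hJ := by
  by_contra h
  have hn : IsEmpty (Fin (t.n hJ)) := ⟨fun k => by have := k.2; omega⟩
  obtain ⟨p, hp₁, hp₂⟩ := exists_prod σ.F t.y σ.x
  refine σ.inv _ prod.snd p hp₂ (J.superset_covering ?_ (J.pullback_stable prod.fst (t.cover hJ)))
  rintro Z h ⟨_, _, _, ⟨i⟩, _⟩
  exact isEmptyElim i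

/-- a finite set of tasks together with an element mapping to all of them -/
structure Obj (σ : Stage J S) : Type u where
  /-- the object -/
  W : C
  /-- the element -/
  w : σ.F.obj W
  /-- the map to `X` -/
  g : W ⟶ X
  hg : σ.F.map g w = σ.x
  /-- the tasks -/
  A : Finset (Task σ)
  /-- the maps to the tasks -/
  a : ∀ t : A, W ⟶ t.1.Y
  ha : ∀ t : A, σ.F.map (a t) w = t.1.y

namespace Obj

/-- morphisms -/
@[ext]
structure Hom (o o' : Obj σ) : Type u where
  /-- the map -/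
  u : o.W ⟶ o'.W
  hu : σ.F.map u o.w = o'.w
  wg : u ≫ o'.g = o.g
  sub : o'.A ⊆ o.A
  wa : ∀ t : o'.A, u ≫ o'.a t = o.a ⟨t.1, sub t.2⟩

instance : Category (Obj σ) where
  Hom := Hom
  id o := ⟨𝟙 _, by simp, Category.id_comp _, subset_rfl, fun t => Category.id_comp _⟩
  comp {o₁ o₂ o₃} p q := ⟨p.u ≫ q.u, by rw [elem_comp, p.hu, q.hu], by rw [Category.assoc, q.wg, p.wg],
    q.sub.trans p.sub, fun t => by rw [Category.assoc, q.wa t, p.wa ⟨t.1, q.sub t.2⟩]⟩
  id_comp p := Hom.ext (Category.id_comp _)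
  comp_id p := Hom.ext (Category.comp_id _)
  assoc p q r := Hom.ext (Category.assoc _ _ _)

lemma exists_hom_equalizing (o : Obj σ) {Q : C} (f g : o.W ⟶ Q) (h : σ.F.map f o.w = σ.F.map g o.w) :
    ∃ (o' : Obj σ) (p : o' ⟶ o), p.u ≫ f = p.u ≫ g := by
  obtain ⟨E, e, b, he, hb⟩ := exists_equalizer_lift σ.F f g o.w h
  exact ⟨⟨E, b, e ≫ o.g, by rw [elem_comp, hb, o.hg], o.A, fun t => e ≫ o.a t,
      fun t => by rw [elem_comp, hb, o.ha]⟩,
    ⟨e, hb, rfl, subset_rfl, fun t => rfl⟩, he⟩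

/-- refine `o` by the tasks of a finite set over a common element -/
lemma exists_above (o o' : Obj σ) : ∃ o'' : Obj σ, Nonempty (o'' ⟶ o) ∧ Nonempty (o'' ⟶ o') := by
  classical
  obtain ⟨p, hp₁, hp₂⟩ := exists_prod σ.F o.w o'.w
  -- equalize the two maps to `X` and to the common tasks
  have key : ∀ B : Finset (Task σ), ∃ (E : C) (e : E ⟶ prod o.W o'.W) (b : σ.F.obj E), σ.F.map e b = p ∧
      e ≫ prod.fst ≫ o.g = e ≫ prod.snd ≫ o'.g ∧
      ∀ t ∈ B, ∀ (h : t ∈ o.A) (h' : t ∈ o'.A),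
        e ≫ prod.fst ≫ o.a ⟨t, h⟩ = e ≫ prod.snd ≫ o'.a ⟨t, h'⟩ := by
    intro B
    induction B using Finset.induction with
    | empty =>
      obtain ⟨E, e, b, he, hb⟩ := exists_equalizer_lift σ.F (prod.fst ≫ o.g) (prod.snd ≫ o'.g) p
        (by rw [elem_comp, elem_comp, hp₁, hp₂, o.hg, o'.hg])
      exact ⟨E, e, b, hb, he, by simp⟩
    | @insert t B _ ih =>
      obtain ⟨E, e, b, hb, he, hB⟩ := ih
      by_cases h : t ∈ o.A ∧ t ∈ o'.A
      · obtain ⟨E', e', b', he', hb'⟩ := exists_equalizer_lift σ.F (e ≫ prod.fst ≫ o.a ⟨t, h.1⟩)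
          (e ≫ prod.snd ≫ o'.a ⟨t, h.2⟩) b
          (by rw [elem_comp, elem_comp, elem_comp, elem_comp, hb, hp₁, hp₂, o.ha, o'.ha])
        refine ⟨E', e' ≫ e, b', by rw [elem_comp, hb', hb], by simp only [Category.assoc, he], fun s hs h₁ h₂ => ?_⟩
        rcases Finset.mem_insert.1 hs with rfl | hs
        · simpa using he'
        · simp only [Category.assoc, hB s hs h₁ h₂]
      · refine ⟨E, e, b, hb, he, fun s hs h₁ h₂ => ?_⟩
        rcases Finset.mem_insert.1 hs with rfl | hs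
        · exact (h ⟨h₁, h₂⟩).elim
        · exact hB s hs h₁ h₂
  obtain ⟨E, e, b, hb, he, hB⟩ := key o.A
  let a : ∀ t : ↥(o.A ∪ o'.A), E ⟶ t.1.Y := fun t =>
    if h : t.1 ∈ o.A then e ≫ prod.fst ≫ o.a ⟨t.1, h⟩
    else e ≫ prod.snd ≫ o'.a ⟨t.1, (Finset.mem_union.1 t.2).resolve_left h⟩
  refine ⟨⟨E, b, e ≫ prod.fst ≫ o.g, by rw [elem_comp, elem_comp, hb, hp₁, o.hg], o.A ∪ o'.A, a, fun t => ?_⟩,
    ⟨⟨e ≫ prod.fst, by rw [elem_comp, hb, hp₁], Category.assoc _ _ _, Finset.subset_union_left, fun t => ?_⟩⟩,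
    ⟨⟨e ≫ prod.snd, by rw [elem_comp, hb, hp₂], by simp only [Category.assoc, he],
      Finset.subset_union_right, fun t => ?_⟩⟩⟩
  · simp only [a]
    split <;> rw [elem_comp, elem_comp, hb] <;> simp [hp₁, hp₂, o.ha, o'.ha]
  · simp only [a, Category.assoc]
    rw [dif_pos t.2]
  · simp only [a, Category.assoc]
    split
    · exact (hB t.1 ‹_› ‹_› t.2).symm
    · rfl

instance : IsCofiltered (Obj σ) where
  cone_objs o o' := by
    obtain ⟨o'', ⟨p⟩, ⟨q⟩⟩ := exists_above o o'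
    exact ⟨o'', p, q, trivial⟩
  cone_maps o o' p q := by
    obtain ⟨o'', r, hr⟩ := exists_hom_equalizing o p.u q.u (p.hu.trans q.hu.symm)
    exact ⟨o'', r, Hom.ext hr⟩
  nonempty := ⟨⟨X, σ.x, 𝟙 X, by simp, ∅, fun t => absurd t.2 (Finset.notMem_empty _),
    fun t => absurd t.2 (Finset.notMem_empty _)⟩⟩

end Obj

variable (σ) in
/-- a choice of a member of the cover for every task -/
abbrev Choice : Type u := ∀ t : Task σ, ULift.{u} (Fin (t.n hJ))

/-- the choice `c` keeps `S` non-covering at `o` -/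
def Good (o : Obj σ) (c : Choice hJ σ) : Prop :=
  ∃ (Z : C) (h : Z ⟶ o.W), (∀ t : o.A, ∃ l, l ≫ t.1.f hJ (c t.1).down = h ≫ o.a t) ∧ S.pullback (h ≫ o.g) ∉ J Z

lemma exists_good_one (o : Obj σ) : ∃ c : Choice hJ σ, Good hJ o c := by
  classical
  by_contra hne
  push Not at hne
  have c₀ : Choice hJ σ := fun t => ⟨⟨0, t.n_pos hJ⟩⟩
  refine σ.inv o.W o.g o.w o.hg (J.transitive (R := S.pullback o.g)
    (S := o.A.attach.inf fun t => (Sieve.ofArrows (t.1.V hJ) (t.1.f hJ)).pullback (o.a t)) ?_ fun Z h hh => ?_)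
  · refine Finset.inf_induction (p := fun R : Sieve o.W => R ∈ J o.W) (J.top_mem _)
      (fun a ha b hb => J.intersection_covering ha hb) fun t _ => J.pullback_stable _ (t.1.cover hJ)
  · have hk : ∀ t : o.A, ∃ (k : Fin (t.1.n hJ)) (l : Z ⟶ t.1.V hJ k), l ≫ t.1.f hJ k = h ≫ o.a t := fun t => by
      have hle := Finset.inf_le (f := fun t : o.A => (Sieve.ofArrows (t.1.V hJ) (t.1.f hJ)).pullback (o.a t))
        (Finset.mem_attach o.A t) h hh
      obtain ⟨_, l, _, ⟨k⟩, e⟩ := hle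
      exact ⟨k, l, e⟩
    choose k l hl using hk
    let c : Choice hJ σ := fun t => if ht : t ∈ o.A then ⟨k ⟨t, ht⟩⟩ else c₀ t
    rw [← Sieve.pullback_comp]
    by_contra hnot
    exact hne c ⟨Z, h, fun t => by
      have hc : c t.1 = ⟨k t⟩ := dif_pos t.2
      rw [hc]
      exact ⟨l t, hl t⟩, hnot⟩

lemma good_of_hom {o o' : Obj σ} (p : o ⟶ o') {c : Choice hJ σ} (h : Good hJ o c) : Good hJ o' c := by
  obtain ⟨Z, h, hl, hS⟩ := h
  refine ⟨Z, h ≫ p.u, fun t => ?_, by rwa [Category.assoc, p.wg]⟩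
  obtain ⟨l, hl⟩ := hl ⟨t.1, p.sub t.2⟩
  exact ⟨l, hl.trans (by rw [Category.assoc, p.wa t])⟩

lemma exists_choice : ∃ c : Choice hJ σ, ∀ o : Obj σ, Good hJ o c := by
  classical
  letI : ∀ t : Task σ, TopologicalSpace (ULift.{u} (Fin (t.n hJ))) := fun _ => ⊥
  have : ∀ t : Task σ, DiscreteTopology (ULift.{u} (Fin (t.n hJ))) := fun _ => ⟨rfl⟩
  have : ∀ t : Task σ, CompactSpace (ULift.{u} (Fin (t.n hJ))) := fun _ => Finite.compactSpace
  have hcl : ∀ o : Obj σ, IsClosed {c : Choice hJ σ | Good hJ o c} := fun o => by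
    let π : Choice hJ σ → (∀ t : o.A, ULift.{u} (Fin (t.1.n hJ))) := fun c t => c t.1
    have hπ : Continuous π := continuous_pi fun t => continuous_apply (A := fun t : Task σ => ULift.{u} (Fin (t.n hJ))) t.1
    have : {c : Choice hJ σ | Good hJ o c} = π ⁻¹' {d | ∃ (Z : C) (h : Z ⟶ o.W),
        (∀ t : o.A, ∃ l, l ≫ t.1.f hJ (d t).down = h ≫ o.a t) ∧ S.pullback (h ≫ o.g) ∉ J Z} := rfl
    rw [this]
    exact (isClosed_discrete _).preimage hπ
  have : Nonempty (Obj σ) := IsCofiltered.nonempty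
  obtain ⟨c, hc⟩ := IsCompact.nonempty_iInter_of_directed_nonempty_isCompact_isClosed
    (fun o : Obj σ => {c : Choice hJ σ | Good hJ o c})
    (fun o o' => by
      obtain ⟨o'', ⟨p⟩, ⟨q⟩⟩ := Obj.exists_above o o'
      exact ⟨o'', fun c hc => good_of_hom hJ p hc, fun c hc => good_of_hom hJ q hc⟩)
    (fun o => exists_good_one hJ o) (fun o => (hcl o).isCompact) hcl
  exact ⟨c, fun o => Set.mem_iInter.1 hc o⟩

section Build

variable (c : Choice hJ σ)

/-- adjoin the chosen lifts -/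
noncomputable abbrev Pobj (o : Obj σ) : C :=
  pullback (Pi.lift o.a) (Limits.Pi.map fun t : o.A => t.1.f hJ (c t.1).down)

/-- the projection to the element -/
noncomputable def Pfst (o : Obj σ) : Pobj hJ c o ⟶ o.W := pullback.fst _ _

/-- the chosen lift -/
noncomputable def Psnd (o : Obj σ) (t : o.A) : Pobj hJ c o ⟶ t.1.V hJ (c t.1).down :=
  pullback.snd _ _ ≫ Pi.π _ t

lemma P_condition (o : Obj σ) (t : o.A) : Psnd hJ c o t ≫ t.1.f hJ (c t.1).down = Pfst hJ c o ≫ o.a t := by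
  have h := congrArg (· ≫ Pi.π _ t) (pullback.condition (f := Pi.lift o.a)
    (g := Limits.Pi.map fun t : o.A => t.1.f hJ (c t.1).down))
  simp only [Category.assoc, Pi.lift_π, Pi.map_π] at h
  simpa [Psnd, Pfst] using h.symm

lemma P_lift (o : Obj σ) {Z : C} (h : Z ⟶ o.W) (l : ∀ t : o.A, Z ⟶ t.1.V hJ (c t.1).down)
    (hl : ∀ t, l t ≫ t.1.f hJ (c t.1).down = h ≫ o.a t) :
    ∃ r : Z ⟶ Pobj hJ c o, r ≫ Pfst hJ c o = h ∧ ∀ t, r ≫ Psnd hJ c o t = l t :=
  ⟨pullback.lift h (Pi.lift l) (Pi.hom_ext _ _ fun t => by simp [hl]), pullback.lift_fst _ _ _, fun t =>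
    (Category.assoc _ _ _).symm.trans ((congrArg (· ≫ Pi.π _ t) (pullback.lift_snd _ _ _)).trans (Pi.lift_π _ _))⟩

lemma P_hom_ext (o : Obj σ) {Z : C} {r r' : Z ⟶ Pobj hJ c o} (h₁ : r ≫ Pfst hJ c o = r' ≫ Pfst hJ c o)
    (h₂ : ∀ t, r ≫ Psnd hJ c o t = r' ≫ Psnd hJ c o t) : r = r' :=
  pullback.hom_ext h₁ (Pi.hom_ext _ _ fun t => by simpa [Psnd] using h₂ t)

/-- transition maps -/
noncomputable def Pmap {o o' : Obj σ} (p : o ⟶ o') : Pobj hJ c o ⟶ Pobj hJ c o' :=
  (P_lift hJ c o' (Pfst hJ c o ≫ p.u) (fun t => Psnd hJ c o ⟨t.1, p.sub t.2⟩) fun t => by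
    rw [P_condition hJ c o ⟨t.1, p.sub t.2⟩, Category.assoc, p.wa]).choose

lemma Pmap_fst {o o' : Obj σ} (p : o ⟶ o') : Pmap hJ c p ≫ Pfst hJ c o' = Pfst hJ c o ≫ p.u := by
  exact (P_lift hJ c o' (Pfst hJ c o ≫ p.u) (fun t => Psnd hJ c o ⟨t.1, p.sub t.2⟩) fun t => by
    rw [P_condition hJ c o ⟨t.1, p.sub t.2⟩, Category.assoc, p.wa]).choose_spec.1

lemma Pmap_snd {o o' : Obj σ} (p : o ⟶ o') (t : o'.A) :
    Pmap hJ c p ≫ Psnd hJ c o' t = Psnd hJ c o ⟨t.1, p.sub t.2⟩ := by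
  exact (P_lift hJ c o' (Pfst hJ c o ≫ p.u) (fun t => Psnd hJ c o ⟨t.1, p.sub t.2⟩) fun t => by
    rw [P_condition hJ c o ⟨t.1, p.sub t.2⟩, Category.assoc, p.wa]).choose_spec.2 t

/-- the pro-object -/
noncomputable def proObj : Obj σ ⥤ C where
  obj := Pobj hJ c
  map := Pmap hJ c
  map_id o := P_hom_ext hJ c o (by rw [Pmap_fst, Category.id_comp]; exact Category.comp_id _)
    (fun t => by rw [Pmap_snd, Category.id_comp])
  map_comp {o o' o''} p q := P_hom_ext hJ c o''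
    (by rw [Pmap_fst, Category.assoc, Pmap_fst, ← Category.assoc, Pmap_fst, Category.assoc]; rfl)
    (fun t => by rw [Pmap_snd, Category.assoc, Pmap_snd, Pmap_snd])

/-- the new functor -/
noncomputable def newF : C ⥤ Type u := ((proObj hJ c).op ⋙ coyoneda).flip ⋙ colim

instance : PreservesFiniteLimits (((proObj hJ c).op ⋙ coyoneda).flip) :=
  ⟨fun K _ _ => preservesLimitsOfShape_of_evaluation _ _ fun o =>
    inferInstanceAs (PreservesLimitsOfShape K (coyoneda.obj (op ((proObj hJ c).obj o.unop))))⟩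

instance : PreservesFiniteLimits (newF hJ c) := by
  unfold newF; infer_instance

/-- classes in the new functor -/
noncomputable def cls (o : Obj σ) {Q : C} (p : Pobj hJ c o ⟶ Q) : (newF hJ c).obj Q :=
  colimit.ι (((proObj hJ c).op ⋙ coyoneda).flip.obj Q) (op o) p

lemma newF_map_cls (o : Obj σ) {Q Q' : C} (p : Pobj hJ c o ⟶ Q) (q : Q ⟶ Q') :
    (newF hJ c).map q (cls hJ c o p) = cls hJ c o (p ≫ q) :=
  congr($(ι_colimMap (((proObj hJ c).op ⋙ coyoneda).flip.map q) (op o)) p)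

lemma cls_map {o o' : Obj σ} (r : o' ⟶ o) {Q : C} (p : Pobj hJ c o ⟶ Q) :
    cls hJ c o' (Pmap hJ c r ≫ p) = cls hJ c o p :=
  colimit.w_apply (((proObj hJ c).op ⋙ coyoneda).flip.obj Q) r.op p

lemma cls_elem_eq (o o' : Obj σ) {Q : C} (u : o.W ⟶ Q) (u' : o'.W ⟶ Q)
    (h : σ.F.map u o.w = σ.F.map u' o'.w) :
    cls hJ c o (Pfst hJ c o ≫ u) = cls hJ c o' (Pfst hJ c o' ≫ u') := by
  obtain ⟨o'', ⟨p⟩, ⟨q⟩⟩ := Obj.exists_above o o'
  obtain ⟨o₃, r, hr⟩ := Obj.exists_hom_equalizing o'' (p.u ≫ u) (q.u ≫ u')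
    (by rw [elem_comp, elem_comp, p.hu, q.hu, h])
  rw [← cls_map hJ c p, ← cls_map hJ c q, ← cls_map hJ c r, ← cls_map hJ c r (Pmap hJ c q ≫ _)]
  congr 1
  rw [reassoc_of% (Pmap_fst hJ c p), reassoc_of% (Pmap_fst hJ c q), reassoc_of% (Pmap_fst hJ c r),
    reassoc_of% (Pmap_fst hJ c r), hr]

lemma exists_obj_to {Q : C} (q : σ.F.obj Q) : ∃ (o : Obj σ) (u : o.W ⟶ Q), σ.F.map u o.w = q := by
  obtain ⟨p, hp₁, hp₂⟩ := exists_prod σ.F q σ.x
  exact ⟨⟨prod Q X, p, prod.snd, hp₂, ∅, fun t => absurd t.2 (Finset.notMem_empty _),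
    fun t => absurd t.2 (Finset.notMem_empty _)⟩, prod.fst, hp₁⟩

/-- the class of an old element -/
noncomputable def old {Q : C} (q : σ.F.obj Q) : (newF hJ c).obj Q :=
  cls hJ c (exists_obj_to q).choose (Pfst hJ c _ ≫ (exists_obj_to q).choose_spec.choose)

lemma old_eq {Q : C} (q : σ.F.obj Q) (o : Obj σ) (u : o.W ⟶ Q) (h : σ.F.map u o.w = q) :
    old hJ c q = cls hJ c o (Pfst hJ c o ≫ u) :=
  cls_elem_eq hJ c _ o _ u ((exists_obj_to q).choose_spec.choose_spec.trans h.symm)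

/-- old elements map to new ones -/
noncomputable def incl : σ.F ⟶ newF hJ c where
  app Q := TypeCat.ofHom (old hJ c)
  naturality Q Q' f := by
    ext q
    obtain ⟨o, u, h⟩ := exists_obj_to q
    show old hJ c (σ.F.map f q) = (newF hJ c).map f (old hJ c q)
    rw [old_eq hJ c q o u h, newF_map_cls, Category.assoc]
    exact old_eq hJ c _ o (u ≫ f) (by rw [elem_comp, h])

end Build

include hJ in
/-- the step -/
theorem exists_step : ∃ (σ' : Stage J S) (α : σ.F ⟶ σ'.F), α.app X σ.x = σ'.x ∧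
    ∀ (Y : C) (R : Sieve Y), R ∈ J Y → ∀ y : σ.F.obj Y,
      ∃ (V : C) (f : V ⟶ Y) (_ : R f) (v : σ'.F.obj V), σ'.F.map f v = α.app Y y := by
  classical
  obtain ⟨c, hc⟩ := exists_choice hJ (σ := σ)
  refine ⟨{ F := newF hJ c, x := old hJ c σ.x, inv := fun W g v hv => ?_ }, incl hJ c, rfl, fun Y R hR y => ?_⟩
  · obtain ⟨o, p, rfl⟩ := Types.jointly_surjective' v
    obtain ⟨o, rfl⟩ : ∃ o', o = op o' := ⟨o.unop, rfl⟩
    change (newF hJ c).map g (cls hJ c o p) = old hJ c σ.x at hv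
    rw [newF_map_cls, old_eq hJ c σ.x o o.g o.hg] at hv
    obtain ⟨k, r, r', hr⟩ := (Types.FilteredColimit.colimit_eq_iff _).1 hv
    obtain ⟨o'', rfl⟩ : ∃ o', k = op o' := ⟨k.unop, rfl⟩
    change Pmap hJ c r.unop ≫ p ≫ g = Pmap hJ c r'.unop ≫ Pfst hJ c o ≫ o.g at hr
    rw [reassoc_of% (Pmap_fst hJ c r'.unop), r'.unop.wg] at hr
    obtain ⟨Z, h, hl, hS⟩ := hc o''
    choose l hl using hl
    obtain ⟨z, hz, -⟩ := P_lift hJ c o'' h l hl
    intro hg
    refine hS ?_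
    rw [← hz, Category.assoc, ← hr]
    have := J.pullback_stable (z ≫ Pmap hJ c r.unop ≫ p) hg
    rw [← Sieve.pullback_comp] at this
    simpa only [Category.assoc] using this
  · let t : Task σ := ⟨Y, R, hR, y⟩
    obtain ⟨p, hp₁, hp₂⟩ := exists_prod σ.F y σ.x
    let o : Obj σ := ⟨prod Y X, p, prod.snd, hp₂, {t},
      fun s => prod.fst ≫ eqToHom (by rw [Finset.mem_singleton.1 s.2]),
      fun ⟨s, hs⟩ => by
        obtain rfl := Finset.mem_singleton.1 hs
        simpa using hp₁⟩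
    refine ⟨_, t.f hJ (c t).down, t.f_mem hJ _, cls hJ c o (Psnd hJ c o ⟨t, Finset.mem_singleton_self t⟩), ?_⟩
    change (newF hJ c).map _ _ = old hJ c y
    rw [newF_map_cls, P_condition, old_eq hJ c y o prod.fst hp₁]
    simp [o]

end Groth.Agent.ToposPts
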